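import Cfsg.Agent.Fi23Cent.Local

/-!
An involution whose centraliser is a perfect double cover of a group of type M(22), not weakly closed:
the component of its commuting graph has 31671 = 1 + 3510 + 28160 members.
-/

set_option autoImplicit false
set_option linter.unusedSectionVars false

namespace Cfsg.Agent.Fi23Cent

open Cfsg.Agent.TT95 Cfsg.Agent.M22Double

variable {G Q : Type*} [Group G] [Finite G] [Group Q] [Finite Q] {d : G} {π : ↥(cen d) →* Q} {E : Set Q}
  [TT95.Gen E] (h : Hyp d π E)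

include h

theorem Hyp.ncard_nb {x : G} (hx : x ∈ conjugatesOf d) : (nb (conjugatesOf d) x).ncard = 3510 := by
  obtain ⟨f, hf⟩ := h.iso_at hx
  obtain ⟨a, ha, -⟩ := h.cov.core.2
  rw [hf.ncard, ncard_D h.cov.cfg ha]

open scoped Classical in
theorem Hyp.ncard_comp : (TT95.comp (conjugatesOf d) d).ncard = 31671 := by
  haveI := Fintype.ofFinite G
  set D := conjugatesOf d with hDdef
  have hd : d ∈ D := IsConj.refl d
  set D₀ := TT95.comp D d with hD₀
  set A := (nb D d).toFinset
  set F := Finset.univ.filter fun y => y ∈ D₀ ∧ ¬ Commute d y with hF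
  have hA : A.card = 3510 := by rw [← Set.ncard_eq_toFinset_card', h.ncard_nb hd]
  have hrow : ∀ y ∈ F, (A.bipartiteAbove Commute y).card = 351 := by
    intro y hy
    obtain ⟨hy0, hdy⟩ := (Finset.mem_filter.1 hy).2
    rw [← (h.common_351 hd ⟨hy0.1, hdy⟩ ((h.diam hd hy0.2).resolve_left hdy)).1,
      Set.ncard_eq_toFinset_card', Finset.bipartiteAbove]
    congr 1
    ext w
    simp only [A, Finset.mem_filter, Set.mem_toFinset]
    exact ⟨fun ⟨h1, h2⟩ => ⟨h1, h1.1, fun e => hdy (e ▸ h1.2.2), h2⟩, fun ⟨h1, h2⟩ => ⟨h1, h2.2.2⟩⟩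
  have hcol : ∀ w ∈ A, (F.bipartiteBelow Commute w).card = 2816 := by
    intro w hw
    have hwn : w ∈ nb D d := Set.mem_toFinset.1 hw
    obtain ⟨f, hf⟩ := h.iso_at hwn.1
    have hdw := TT95.mem_nb_comm hd hwn
    have hfd := hf.mem hdw
    have hsplit := (lay22 h.cov.cfg hfd).card_split hfd (Set.toFinite _)
    rw [← hf.image_far hdw, hf.ncard_image Set.inter_subset_left, ← hDdef] at hsplit
    have e : (F.bipartiteBelow Commute w).card = (nb D w ∩ far D d).ncard := by
      rw [Set.ncard_eq_toFinset_card', Finset.bipartiteBelow]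
      congr 1
      ext y
      simp only [F, Finset.mem_filter, Finset.mem_univ, true_and, Set.mem_toFinset]
      constructor
      · rintro ⟨⟨h1, h2⟩, h3⟩
        exact ⟨⟨h1.1, fun e => h2 (e ▸ hwn.2.2), h3.symm⟩, h1.1, h2⟩
      · rintro ⟨h1, h2⟩
        exact ⟨⟨⟨h1.1, (Path.single' hd hwn.1 hwn.2.2).trans' (Path.single' hwn.1 h1.1 h1.2.2)⟩, h2.2⟩,
          h1.2.2.symm⟩
    rw [e]
    omega
  have hdc := Finset.card_mul_eq_card_mul (s := F) (t := A) Commute hrow hcol
  have hFc : (F : Set G).ncard = 28160 := by rw [Set.ncard_coe_finset]; omega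
  have hset : D₀ = insert d (nb D d ∪ (F : Set G)) := by
    ext y
    simp only [F, Finset.coe_filter, Finset.mem_univ, true_and, Set.mem_insert_iff, Set.mem_union,
      Set.mem_setOf_eq]
    constructor
    · intro hy
      rcases mem_nb_or_far (a := d) hy.1 with r | r | r
      exacts [Or.inl r, Or.inr (Or.inl r), Or.inr (Or.inr ⟨hy, r.2⟩)]
    · rintro (rfl | r | r)
      exacts [⟨hd, .refl⟩, ⟨r.1, Path.single' hd r.1 r.2.2⟩, r.1]
  have hdis : Disjoint (nb D d) (F : Set G) := Set.disjoint_left.2 fun y hy hy' => by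
    simp only [F, Finset.coe_filter, Finset.mem_univ, true_and, Set.mem_setOf_eq] at hy'
    exact hy'.2 hy.2.2
  have hdn : d ∉ nb D d ∪ (F : Set G) := by
    rintro (r | r)
    · exact r.2.1 rfl
    · simp only [F, Finset.coe_filter, Finset.mem_univ, true_and, Set.mem_setOf_eq] at r
      exact r.2 (Commute.refl d)
  rw [hset, Set.ncard_insert_of_notMem hdn (Set.toFinite _), Set.ncard_union_eq hdis (Set.toFinite _) (Set.toFinite _),
    h.ncard_nb hd, hFc]

end Cfsg.Agent.Fi23Cent
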